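import Cfsg.Agent.Lib.SpThreeCent.SixEnd.Interface

/-!
# The centralizer of `a` as `3 × Sp₆(2)` in coordinates

`Six a t z y b φ`: the centralizer of `a` is `⟨a⟩ × φ(S)`, where `φ(S)` is the fixed part of the involution `t`
inverting `a`; in the three planes `z = (1,1,1)`, `y = (1,0,0)` and `b = (0,1,-1)`. For the side of `b` use
`Six b t2 z (y⁻¹ * z) a ψ`.
-/

set_option autoImplicit false

namespace Cfsg.Agent.FFourLocal

open Subgroup Cfsg.Agent.SpThreeCent.SixEnd

universe u

/-- The element of order three of the plane spanned by the bits `k` and `3 + k`. -/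
def px : Fin 3 → S := ![tvS 1 * tvS 8, tvS 2 * tvS 16, tvS 4 * tvS 32]

/-- `C(a) = ⟨a⟩ × φ(S)` in coordinates. -/
structure Six {G : Type u} [Group G] (a t z y b : G) (φ : S →* G) : Prop where
  inj : Function.Injective φ
  range : φ.range = centralizer ({a, t} : Set G)
  cent : centralizer ({a} : Set G) = zpowers a ⊔ φ.range
  map_z : φ (px 0 * px 1 * px 2) = z
  map_y : φ (px 0) = y
  map_b : φ (px 1 * (px 2)⁻¹) = b

/-- `C(a) / ⟨a⟩` is `Sp₆(2)`. -/
def Big {G : Type u} [Group G] (a : G) : Prop :=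
  ∃ π : ↥(centralizer ({a} : Set G)) →* S, Function.Surjective π ∧ ∀ x, π x = 1 ↔ (x : G) ∈ zpowers a

end Cfsg.Agent.FFourLocal
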