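import Cfsg.Agent.Lib.FFourLocal.Loc.Main
import Cfsg.Agent.Lib.FFourLocal.CT.End
import Cfsg.Agent.Lib.FFourLocal.ToCtrl.Main
import Cfsg.Agent.Lib.FFourLocal.Ctrl.Index
import Cfsg.Agent.Lib.FFourLocal.SixData

/-!
# The `F₄(2)` statement from its parts

`hB` (coordinates on the centralisers of `a` and `b`) and `hC` (the Curtis–Tits data on the two
centralisers) are the two parts taken as arguments here.
-/

set_option autoImplicit false

namespace Cfsg.Agent.FFourLocal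

open Subgroup Cfsg.Agent.SpThreeCent.SixEnd

universe u v

variable {G : Type u} [Group G] [Finite G]

/-- The statement S3077 from coordinates on both centralisers and the Curtis–Tits data. -/
theorem assemble
    (hB : ∀ (Z Q Q1 Q2 L1 L2 E : Subgroup G) (t1 t2 z y a b : G), Local Z Q Q1 Q2 L1 L2 E t1 t2 z y a b →
      ∃ y' : G, Local Z Q Q1 Q2 L1 L2 E t1 t2 z y' a b ∧
        ∃ φ ψ : S →* G, Six a t1 z y' b φ ∧ Six b t2 z (y'⁻¹ * z) a ψ)
    (hC : ∀ (Z Q Q1 Q2 L1 L2 E : Subgroup G) (t1 t2 z y a b : G) (φ ψ : S →* G),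
      Local Z Q Q1 Q2 L1 L2 E t1 t2 z y a b → Six a t1 z y b φ → Six b t2 z (y⁻¹ * z) a ψ →
      ∃ Φt Φs : S →* G, CTData Φt Φs ∧ φ.range ≤ Φt.range ⊔ Φs.range ∧ ψ.range ≤ Φt.range ⊔ Φs.range ∧
        a ∈ Φt.range ⊔ Φs.range ∧ b ∈ Φt.range ⊔ Φs.range ∧
        Φt.range ⊔ Φs.range ≤ centralizer ({a} : Set G) ⊔ centralizer ({b} : Set G))
    (Z : Subgroup G) (hZ3 : Nat.card ↥Z = 3)
    (hQ : Cfsg.IsExtraspecial 3 ↥(Cfsg.generalizedFittingSubgroup ↥(centralizer (Z : Set G))))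
    (hQord : Nat.card ↥(Cfsg.generalizedFittingSubgroup ↥(centralizer (Z : Set G))) = 3 ^ 5)
    (hZQ : center ↥(Cfsg.generalizedFittingSubgroup ↥(centralizer (Z : Set G))) =
      (center ↥(centralizer (Z : Set G))).subgroupOf (Cfsg.generalizedFittingSubgroup ↥(centralizer (Z : Set G))))
    (hN : ∃ _ : (Cfsg.generalizedFittingSubgroup ↥(centralizer (Z : Set G))).Normal,
      ∃ N : Subgroup (↥(centralizer (Z : Set G)) ⧸ Cfsg.generalizedFittingSubgroup ↥(centralizer (Z : Set G))),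
        N.Normal ∧ Nonempty (↥N ≃* QuaternionGroup 2 × QuaternionGroup 2))
    (hnwc : ∃ g : G, Z.map (MulAut.conj g).toMonoidHom ≠ Z ∧ Z.map (MulAut.conj g).toMonoidHom ≤
      (Cfsg.generalizedFittingSubgroup ↥(centralizer (Z : Set G))).map (centralizer (Z : Set G)).subtype)
    {F : Type v} [Field F] [Fintype F] (hF : Fintype.card F = 2) :
    Nonempty (G ≃* ↥(Cfsg.Lie.chevF4.group F)) ∨ Nonempty (G ≃* MulAut ↥(Cfsg.Lie.chevF4.group F)) := by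
  obtain ⟨Q, Q1, Q2, L1, L2, E, t1, t2, z, y, a, b, D⟩ := exists_local Z hZ3 hQ hQord hZQ hN hnwc
  obtain ⟨y', D', φ, ψ, hφ, hψ⟩ := hB Z Q Q1 Q2 L1 L2 E t1 t2 z y a b D
  obtain ⟨Φt, Φs, hct, h1, h2, h3, h4, h5⟩ := hC Z Q Q1 Q2 L1 L2 E t1 t2 z y' a b φ ψ D' hφ hψ
  obtain ⟨f, hinj, hr, -⟩ := exists_f4_iso hct F hF
  exact Ctrl.iso_or_aut (control_of_six D' hφ hψ hF f hinj (hr ▸ h1) (hr ▸ h2) (hr ▸ h3) (hr ▸ h4)
    (hr ▸ h5))

end Cfsg.Agent.FFourLocal
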