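import Cfsg.Agent.Lib.SpThreeCent.SixEnd.Interface

/-!
# The data handed to the Curtis–Tits recognition of `F₄(2)`

The two Levi complements `Sp₆(2)` as images of the permutation model: `Φt` centralises the long root
group of the highest root, `Φs` the short one. Coordinates: bit `k` is `e_k`, bit `3 + k` is `f_k`.

For `Φt` (type `C₃`) the planes belong to the roots `ε₁-ε₂`, `ε₃-ε₄`, `ε₃+ε₄`; for `Φs` (type `B₃`
read as `C₃`, long and short exchanged) to `ε₂`, `ε₃`, `ε₄`. With `α₁ = ε₂-ε₃`, `α₂ = ε₃-ε₄`,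
`α₃ = ε₄`, `α₄ = (ε₁-ε₂-ε₃-ε₄)/2`:

* `α₁`: `Φs` of `sh 1 16`, `sh 2 8`;
* `α₂`: `Φt` of `tvS 2`, `tvS 16`, and `Φs` of `sh 2 32`, `sh 4 16`;
* `α₃`: `Φt` of `sh 4 16`, `sh 2 32`, and `Φs` of `tvS 4`, `tvS 32`;
* `α₄`: `Φt` of `sh 1 32`, `sh 4 8`.
-/

set_option autoImplicit false

namespace Cfsg.Agent.FFourLocal

open Cfsg.Agent.SpThreeCent.SixEnd

/-- The short root element of the totally isotropic line of `u` and `w`. -/
def sh (u w : Fin 64) : S := tvS u * tvS w * tvS (vadd u w)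

universe u

/-- Two Levi complements of type `C₃` and `B₃` glued along `Sp₄(2)`. -/
structure CTData {G : Type u} [Group G] (Φt Φs : S →* G) : Prop where
  inj_t : Function.Injective Φt
  inj_s : Function.Injective Φs
  agree2 : Φt (tvS 2) = Φs (sh 2 32)
  agree2' : Φt (tvS 16) = Φs (sh 4 16)
  agree3 : Φt (sh 4 16) = Φs (tvS 4)
  agree3' : Φt (sh 2 32) = Φs (tvS 32)
  comm : Commute (Φs (sh 1 16)) (Φt (sh 1 32))
  comm' : Commute (Φs (sh 1 16)) (Φt (sh 4 8))
  comm_neg : Commute (Φs (sh 2 8)) (Φt (sh 1 32))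
  comm_neg' : Commute (Φs (sh 2 8)) (Φt (sh 4 8))
  /-- The glued group has no centre. -/
  centre : ∀ c : G, c ∈ Φt.range ⊔ Φs.range →
    (∀ s, Commute c (Φt s)) → (∀ s, Commute c (Φs s)) → c = 1

end Cfsg.Agent.FFourLocal
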