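import Cfsg.Prelude.Def_LieChev

/-!
# A 3-centralizer of type `F₄(2)`: the local data and the control hypothesis

`Local` is produced from the statement's hypotheses (no weak closure); `Control` is what is handed to
the proof that the group is `F₄(2)` or its automorphism group.
-/

set_option autoImplicit false

namespace Cfsg.Agent.FFourLocal

open Subgroup

universe u v

variable {G : Type u} [Group G]

/-- `Q = Q₁ * Q₂` with the complements `L₁`, `L₂` and their involutions. -/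
structure Base (Z Q Q1 Q2 L1 L2 : Subgroup G) (t1 t2 : G) : Prop where
  Z_card : Nat.card Z = 3
  Q_card : Nat.card Q = 243
  Q_le : Q ≤ centralizer (Z : Set G)
  Q_norm : centralizer (Z : Set G) ≤ normalizer (Q : Set G)
  Z_eq : (center ↥Q).map Q.subtype = Z
  derived : ⁅Q, Q⁆ ≤ Z
  cube : ∀ x ∈ Q, x ^ 3 = 1
  cent : centralizer (Q : Set G) = Z
  le1 : Q1 ≤ Q
  le2 : Q2 ≤ Q
  card1 : Nat.card Q1 = 27
  card2 : Nat.card Q2 = 27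
  Z1 : Z ≤ Q1
  Z2 : Z ≤ Q2
  Q_comm : ∀ a ∈ Q1, ∀ b ∈ Q2, a * b = b * a
  Q_prod : Q1 ⊔ Q2 = Q
  L1_le : L1 ≤ centralizer (Z : Set G)
  L2_le : L2 ≤ centralizer (Z : Set G)
  L1_quat : Nonempty (↥L1 ≃* QuaternionGroup 2)
  L2_quat : Nonempty (↥L2 ≃* QuaternionGroup 2)
  L_comm : ∀ a ∈ L1, ∀ b ∈ L2, a * b = b * a
  L1_cent : L1 ≤ centralizer (Q2 : Set G)
  L2_cent : L2 ≤ centralizer (Q1 : Set G)
  L1_norm : L1 ≤ normalizer (Q1 : Set G)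
  L2_norm : L2 ≤ normalizer (Q2 : Set G)
  trans1 : ∀ a ∈ Q1, a ∉ Z → ∀ b ∈ Q1, b ∉ Z → ∃ l ∈ L1, ∃ z ∈ Z, l * a * l⁻¹ * z = b
  trans2 : ∀ a ∈ Q2, a ∉ Z → ∀ b ∈ Q2, b ∉ Z → ∃ l ∈ L2, ∃ z ∈ Z, l * a * l⁻¹ * z = b
  t1_mem : t1 ∈ L1
  t2_mem : t2 ∈ L2
  t1_two : orderOf t1 = 2
  t2_two : orderOf t2 = 2
  t1_inv : ∀ x ∈ Q1, t1 * x * t1⁻¹ * x ∈ Z
  t2_inv : ∀ x ∈ Q2, t2 * x * t2⁻¹ * x ∈ Z
  norm_L : centralizer (Z : Set G) ≤ normalizer ((Q ⊔ (L1 ⊔ L2) : Subgroup G) : Set G)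

/-- The 3-local data: `E = ⟨a, b, z, y⟩`, the point `a * b` is conjugate to `z`, and an element of the
group interchanges the pairs `(a, b)` and `(y, y⁻¹ * z)`. -/
structure Local (Z Q Q1 Q2 L1 L2 E : Subgroup G) (t1 t2 z y a b : G) : Prop where
  base : Base Z Q Q1 Q2 L1 L2 t1 t2
  small : ∀ P : Subgroup G, IsPGroup 3 ↥P → P ≤ centralizer (Z : Set G) → Nat.card ↥P ∣ 729
  z_mem : z ∈ Z
  z_ne : z ≠ 1
  a_mem : a ∈ Q1
  a_not : a ∉ Z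
  b_mem : b ∈ Q2
  b_not : b ∉ Z
  y_cent : y ∈ centralizer (Z : Set G)
  y_not : y ∉ Q
  y_cube : y ^ 3 = 1
  y_a : y * a = a * y
  y_b : y * b = b * y
  y_t1 : t1 * y = y * t1
  y_t2 : t2 * y = y * t2
  t1_a : t1 * a * t1⁻¹ = a⁻¹
  t2_b : t2 * b * t2⁻¹ = b⁻¹
  E_eq : E = zpowers z ⊔ zpowers a ⊔ zpowers b ⊔ zpowers y
  E_card : Nat.card ↥E = 81
  E_comm : ∀ u ∈ E, ∀ v ∈ E, u * v = v * u
  E_exp : ∀ u ∈ E, u ^ 3 = 1
  swap : ∃ g : G, g * a * g⁻¹ = y ∧ g * b * g⁻¹ = y⁻¹ * z ∧ g * y * g⁻¹ = a ∧ g * (y⁻¹ * z) * g⁻¹ = b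
  sig : ∀ K : Subgroup G, (Nat.card ↥K).Coprime 3 → E ≤ normalizer (K : Set G) → K = ⊥
  cls : ∀ d : G, d ^ 3 = 1 → ∃ g : G, g * d * g⁻¹ ∈ E
  y_diag1 : ∃ x ∈ Q1, x⁻¹ * (y * x * y⁻¹) ∉ Z
  y_diag2 : ∃ x ∈ Q2, x⁻¹ * (y * x * y⁻¹) ∉ Z

/-- `F₄(2)` inside `G`, strongly 3-embedded in the normalizer of its image. -/
structure Control {F : Type v} [Field F] [Fintype F] (f : ↥(Cfsg.Lie.chevF4.group F) →* G) : Prop where
  card_F : Fintype.card F = 2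
  inj : Function.Injective f
  move : ∀ d ∈ f.range, orderOf d = 3 → ∀ g : G, g * d * g⁻¹ ∈ f.range → g ∈ normalizer (f.range : Set G)
  cent_bot : centralizer (f.range : Set G) = ⊥

end Cfsg.Agent.FFourLocal
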